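import Cfsg.Agent.Techniques.Order320.Rel
import Cfsg.Agent.Lib.Coprime.PGroup
import Cfsg.Agent.Solvable.Basics

/-!
The groups of order 320 with derived subgroup of order 64 whose centre is a four-group.
-/

set_option autoImplicit false
set_option maxRecDepth 100000

namespace Cfsg.Agent.Techniques.Order320

open Subgroup
open scoped commutatorElement Pointwise

/-! ### The abstract group -/

section Abstract

variable {G : Type*} [Group G] [Finite G]

theorem monoidHom_trivial (hcom : Nat.card (commutator G) = 64) (hG : Nat.card G = 320) (N : Subgroup G)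
    [N.Normal] (hN : Nat.card N = 4) : N ≤ center G := by
  haveI : Fact (Nat.Prime 2) := ⟨Nat.prime_two⟩
  haveI : Fact (Nat.Prime 5) := ⟨by norm_num⟩
  -- permutations of the three nontrivial elements
  let α := {x : N // x ≠ 1}
  let ρ : G →* Equiv.Perm α :=
    { toFun := fun g => (MulAut.conjNormal g : MulAut N).toEquiv.subtypeEquiv fun x => by
        show x ≠ 1 ↔ (MulAut.conjNormal g : MulAut N) x ≠ 1
        simp
      map_one' := by ext x; simp
      map_mul' := fun g h => by ext x; simp [mul_assoc] }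
  have hα : Nat.card α = 3 := by
    haveI : Fintype N := Fintype.ofFinite N
    classical
    rw [Nat.card_eq_fintype_card, Fintype.card_subtype_compl, Fintype.card_subtype_eq,
      ← Nat.card_eq_fintype_card, hN]
  haveI : Fintype α := Fintype.ofFinite α
  classical
  have hperm : Nat.card (Equiv.Perm α) = 6 := by
    rw [Nat.card_perm, hα]; rfl
  have hdvd : Nat.card ρ.range ∣ Nat.gcd 320 6 :=
    Nat.dvd_gcd (hG ▸ Subgroup.card_range_dvd ρ) (hperm ▸ Subgroup.card_subgroup_dvd_card _)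
  rw [show Nat.gcd 320 6 = 2 from rfl] at hdvd
  have hker : ρ.ker = ⊤ := by
    rw [← index_eq_one]
    rcases (Nat.dvd_prime Nat.prime_two).mp hdvd with h | h
    · rw [index_ker]; exact h
    · exfalso
      haveI : IsMulCommutative ρ.range := by
        have : IsCyclic ρ.range := isCyclic_of_prime_card (p := 2) h
        infer_instance
      have hle : commutator G ≤ ρ.ker := by
        rw [_root_.commutator_def, commutator_le]
        intro a _ b _
        rw [MonoidHom.mem_ker, map_commutatorElement, commutatorElement_eq_one_iff_commute]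
        exact congrArg Subtype.val (IsMulCommutative.is_comm.comm (⟨ρ a, a, rfl⟩ : ρ.range) ⟨ρ b, b, rfl⟩)
      have h2 := index_dvd_of_le hle
      rw [index_ker, h] at h2
      have h3 := (commutator G).card_mul_index
      rw [hcom, hG] at h3
      omega
  intro x hx
  rw [mem_center_iff]
  intro g
  by_cases hx1 : x = 1
  · simp [hx1]
  · have hg : ρ g = 1 := MonoidHom.mem_ker.mp (hker ▸ Subgroup.mem_top g)
    have := congrArg (fun σ : Equiv.Perm α => ((σ ⟨⟨x, hx⟩, fun h => hx1 (congrArg Subtype.val h)⟩ : α) : N)) hg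
    have h2 : g * x * g⁻¹ = x := congrArg Subtype.val this
    exact mul_inv_eq_iff_eq_mul.mp h2

/-- A fixed-point-free action of an element of order dividing five. -/
theorem card_mod_five {Q : Type*} [Group Q] [Finite Q] (W : Subgroup Q) (y : Q) (hy : y ^ 5 = 1)
    (hn : y ∈ normalizer (W : Set Q)) (hfix : ∀ w ∈ W, y * w * y⁻¹ = w → w = 1) : Nat.card W % 5 = 1 := by
  haveI : Fact (Nat.Prime 5) := ⟨by norm_num⟩
  have hz : zpowers y ≤ normalizer (W : Set Q) := zpowers_le.mpr hn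
  letI act : MulAction (zpowers y) W :=
    { smul := fun k w => ⟨k.1 * w.1 * k.1⁻¹, (mem_normalizer_iff.mp (hz k.2) w.1).mp w.2⟩
      one_smul := fun w => Subtype.ext (show (1 : Q) * w.1 * (1 : Q)⁻¹ = w.1 by simp)
      mul_smul := fun a b w => Subtype.ext
        (show a.1 * b.1 * w.1 * (a.1 * b.1)⁻¹ = a.1 * (b.1 * w.1 * b.1⁻¹) * a.1⁻¹ by group) }
  have hp : IsPGroup 5 (zpowers y) := by
    intro k
    refine ⟨1, Subtype.ext ?_⟩
    obtain ⟨m, hm⟩ := mem_zpowers_iff.mp k.2
    simp only [pow_one, SubgroupClass.coe_pow, OneMemClass.coe_one, ← hm]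
    rw [← zpow_natCast, ← zpow_mul, mul_comm, zpow_mul, zpow_natCast, hy, one_zpow]
  have hF : MulAction.fixedPoints (zpowers y) W = {1} := by
    ext w
    rw [MulAction.mem_fixedPoints, Set.mem_singleton_iff]
    constructor
    · intro h
      exact Subtype.ext (hfix _ w.2 (congrArg Subtype.val (h ⟨y, mem_zpowers _⟩)))
    · rintro rfl k
      exact Subtype.ext (show k.1 * (1 : Q) * k.1⁻¹ = 1 by simp)
  have := hp.card_modEq_card_fixedPoints W
  rw [hF, Nat.card_coe_set_eq, Set.ncard_singleton] at this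
  exact this

theorem pow_two_eq_sixteen : ∀ k ≤ 6, k ≠ 0 → 2 ^ k % 5 = 1 → 2 ^ k = 16 := by decide

theorem exists_rel (hG : Nat.card G = 320) (hD : Nat.card (commutator G) = 64)
    (hZ : IsKleinFour (center (commutator G))) :
    ∃ c e : G, Rel c e ∧ closure ({c, e} : Set G) = ⊤ := by
  haveI : Fact (Nat.Prime 2) := ⟨Nat.prime_two⟩
  haveI : Fact (Nat.Prime 5) := ⟨by norm_num⟩
  set S := commutator G with hS
  obtain ⟨c, hc⟩ := exists_prime_orderOf_dvd_card' (G := G) 5 (by rw [hG]; norm_num)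
  have hSidx : S.index = 5 := by
    have := S.card_mul_index
    rw [hD, hG] at this
    omega
  have hcS : c ∉ S := fun h => by
    have h1 : orderOf (⟨c, h⟩ : S) ∣ Nat.card S := orderOf_dvd_natCard _
    rw [orderOf_mk, hc, hD] at h1
    norm_num at h1
  have hSP : IsPGroup 2 S := IsPGroup.of_card (n := 6) (by rw [hD]; rfl)
  haveI : Group.IsNilpotent S := hSP.isNilpotent
  have hSc : S ⊔ zpowers c = ⊤ := by
    have h1 := index_dvd_of_le (show S ≤ S ⊔ zpowers c from le_sup_left)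
    rw [hSidx] at h1
    rcases (Nat.dvd_prime (by norm_num : Nat.Prime 5)).mp h1 with h | h
    · exact index_eq_one.mp h
    · have h2 := relIndex_mul_index (show S ≤ S ⊔ zpowers c from le_sup_left)
      rw [hSidx, h] at h2
      have : S.relIndex (S ⊔ zpowers c) = 1 := by omega
      exact absurd ((relIndex_eq_one.mp this) (mem_sup_right (mem_zpowers c))) hcS
  -- the Frattini subgroup
  set Φ := (frattini S).map S.subtype with hΦ
  haveI hΦn : Φ.Normal := inferInstance
  have hΦS : Φ ≤ S := map_subtype_le _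
  have hsq : ∀ x ∈ S, x * x ∈ Φ := fun x hx =>
    ⟨⟨x, hx⟩ ^ 2, Cfsg.Agent.Solvable.Basics.pow_mem_frattini hSP ⟨x, hx⟩, by simp [pow_two]⟩
  have hcomm : ∀ x ∈ S, ∀ y ∈ S, ⁅x, y⁆ ∈ Φ := fun x hx y hy =>
    ⟨⁅⟨x, hx⟩, ⟨y, hy⟩⁆, Cfsg.Agent.Coprime.commutator_le_frattini S
      (commutator_mem_commutator (mem_top _) (mem_top _)), rfl⟩
  -- the quotient
  let f := QuotientGroup.mk' Φ
  set T := S.map f with hT
  haveI hTn : T.Normal := Subgroup.Normal.map inferInstance f (QuotientGroup.mk'_surjective Φ)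
  have hTab : ∀ a ∈ T, ∀ b ∈ T, Commute a b := by
    rintro _ ⟨x, hx, rfl⟩ _ ⟨y, hy, rfl⟩
    rw [← commutatorElement_eq_one_iff_commute, ← map_commutatorElement, QuotientGroup.mk'_apply,
      QuotientGroup.eq_one_iff]
    exact hcomm x hx y hy
  have hTc : T ⊔ zpowers (f c) = ⊤ := by
    rw [hT, ← MonoidHom.map_zpowers, ← Subgroup.map_sup, hSc, map_top_of_surjective _ (QuotientGroup.mk'_surjective Φ)]
  have hTconj : ∀ t ∈ T, f c * t * (f c)⁻¹ ∈ T := fun t ht => hTn.conj_mem t ht _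
  -- the commutator with `c` is onto
  have hfix : ∀ t ∈ T, f c * t * (f c)⁻¹ = t → t = 1 := by
    let δ : T →* T :=
      MonoidHom.mk' (fun t => ⟨f c * t.1 * (f c)⁻¹ * t.1⁻¹, T.mul_mem (hTconj _ t.2) (T.inv_mem t.2)⟩)
        fun a b => by
          apply Subtype.ext
          have hab := hTab _ (T.mul_mem (hTconj _ b.2) (T.inv_mem b.2)) _ (T.inv_mem a.2)
          calc f c * (a.1 * b.1) * (f c)⁻¹ * (a.1 * b.1)⁻¹
              = f c * a.1 * (f c)⁻¹ * ((f c * b.1 * (f c)⁻¹ * b.1⁻¹) * a.1⁻¹) := by group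
            _ = f c * a.1 * (f c)⁻¹ * (a.1⁻¹ * (f c * b.1 * (f c)⁻¹ * b.1⁻¹)) := by rw [hab.eq]
            _ = _ := by simp only [Subgroup.coe_mul]; group
    set R := δ.range.map T.subtype with hR
    have hRT : R ≤ T := map_subtype_le _
    haveI hRn : R.Normal := by
      rw [← normalizer_eq_top_iff, eq_top_iff, ← hTc, sup_le_iff, zpowers_le]
      refine ⟨fun t ht => centralizer_le_normalizer _ (mem_centralizer_iff.mpr fun r hr =>
        (hTab r (hRT hr) t ht).eq), ?_⟩
      have hle : R.map (MulAut.conj (f c)).toMonoidHom ≤ R := by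
        rintro _ ⟨_, ⟨_, ⟨t, rfl⟩, rfl⟩, rfl⟩
        refine ⟨δ ⟨_, hTconj _ t.2⟩, ⟨_, rfl⟩, ?_⟩
        show f c * (f c * t.1 * (f c)⁻¹) * (f c)⁻¹ * (f c * t.1 * (f c)⁻¹)⁻¹ =
          f c * (f c * t.1 * (f c)⁻¹ * t.1⁻¹) * (f c)⁻¹
        group
      rw [mem_normalizer_iff_map_conj_eq]
      exact eq_of_le_of_card_ge hle (card_map_of_injective (MulAut.conj (f c)).injective).ge
    let g := QuotientGroup.mk' R
    have hgen : T.map g ⊔ zpowers (g (f c)) = ⊤ := by
      rw [← MonoidHom.map_zpowers, ← Subgroup.map_sup, hTc, map_top_of_surjective _ (QuotientGroup.mk'_surjective R)]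
    have hcT : ∀ t ∈ T, Commute (g (f c)) (g t) := fun t ht => by
      rw [← commutatorElement_eq_one_iff_commute, ← map_commutatorElement, QuotientGroup.mk'_apply,
        QuotientGroup.eq_one_iff]
      exact ⟨δ ⟨t, ht⟩, ⟨_, rfl⟩, rfl⟩
    have hTz : T.map g ≤ center _ := by
      rintro _ ⟨t, ht, rfl⟩
      rw [← centralizer_univ, ← coe_top, ← hgen]
      have : T.map g ⊔ zpowers (g (f c)) ≤ centralizer ({g t} : Set _) := by
        refine sup_le ?_ (zpowers_le.mpr (mem_centralizer_singleton_iff.mpr (hcT t ht).eq))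
        rintro _ ⟨s, hs, rfl⟩
        exact mem_centralizer_singleton_iff.mpr ((hTab s hs t ht).map g).eq
      exact mem_centralizer_iff.mpr fun u hu => mem_centralizer_singleton_iff.mp (this hu)
    have hcz : g (f c) ∈ center _ := by
      have : T.map g ⊔ zpowers (g (f c)) ≤ centralizer ({g (f c)} : Set _) :=
        sup_le (fun u hu => mem_centralizer_singleton_iff.mpr (mem_center_iff.mp (hTz hu) _).symm)
          (zpowers_le.mpr (mem_centralizer_singleton_iff.mpr rfl))
      rw [hgen] at this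
      exact mem_center_iff.mpr fun u => mem_centralizer_singleton_iff.mp (this (mem_top u))
    have hab : center ((G ⧸ Φ) ⧸ R) = ⊤ := by
      rw [eq_top_iff, ← hgen]
      exact sup_le hTz (zpowers_le.mpr hcz)
    have hTR : T ≤ R := by
      rw [hT, hS, _root_.commutator_def, map_commutator, commutator_le]
      intro a _ b _
      rw [← QuotientGroup.eq_one_iff, ← QuotientGroup.mk'_apply, map_commutatorElement,
        commutatorElement_eq_one_iff_commute]
      exact (mem_center_iff.mp (hab ▸ mem_top (g b)) (g a))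
    have hsurj : Function.Surjective δ := fun t => by
      obtain ⟨u, ⟨s, rfl⟩, hu⟩ := hTR t.2
      exact ⟨s, Subtype.ext hu⟩
    intro t ht h
    have h1 : δ ⟨t, ht⟩ = δ 1 := by
      rw [map_one]
      exact Subtype.ext (show f c * t * (f c)⁻¹ * t⁻¹ = 1 by rw [h, mul_inv_cancel])
    exact congrArg Subtype.val ((Finite.injective_iff_surjective.2 hsurj) h1)
  -- fixed-point-free action of a group of order five
  have hmod : ∀ W : Subgroup (G ⧸ Φ), W ≤ T → f c ∈ normalizer (W : Set (G ⧸ Φ)) → Nat.card W % 5 = 1 :=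
    fun W hW hn => card_mod_five W (f c) (by rw [← map_pow, ← hc, pow_orderOf_eq_one, map_one]) hn
      fun w hw h => hfix w (hW hw) h
  have hTdvd : Nat.card T ∣ 2 ^ 6 := by
    have h1 : Nat.card T ∣ Nat.card S := by rw [hT]; exact Subgroup.card_map_dvd (f := f) (H := S)
    rw [hD] at h1
    norm_num
    exact h1
  have hWdvd : ∀ W : Subgroup (G ⧸ Φ), W ≤ T → Nat.card W ∣ 2 ^ 6 := fun W hW =>
    (card_dvd_of_le hW).trans hTdvd
  have h16 : ∀ W : Subgroup (G ⧸ Φ), W ≤ T → W ≠ ⊥ → f c ∈ normalizer (W : Set (G ⧸ Φ)) → Nat.card W = 16 := by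
    intro W hW hne hn
    obtain ⟨k, hk, hk'⟩ := (Nat.dvd_prime_pow Nat.prime_two).mp (hWdvd W hW)
    have h5 := hmod W hW hn
    have hk0 : k ≠ 0 := fun h => hne (card_eq_one.mp (by rw [hk', h, pow_zero]))
    rw [hk'] at h5 ⊢
    exact pow_two_eq_sixteen k hk hk0 h5
  -- an element outside the Frattini subgroup
  obtain ⟨e0, he0, he0'⟩ : ∃ e0 ∈ S, e0 ∉ Φ := by
    by_contra h
    push Not at h
    have : Nontrivial S := Finite.one_lt_card_iff_nontrivial.mp (by rw [hD]; norm_num)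
    obtain ⟨M, hM⟩ := IsCoatomic.exists_coatom (Subgroup S)
    refine hM.1 (eq_top_iff.mpr fun x _ => ?_)
    obtain ⟨y, hy, hyx⟩ := h x.1 x.2
    rw [S.subtype_injective hyx] at hy
    exact frattini_le_coatom hM hy
  have hT16 : Nat.card T = 16 := by
    refine h16 T le_rfl (fun h => he0' ?_) (by rw [normalizer_eq_top_iff.mpr hTn]; trivial)
    have : f e0 ∈ T := ⟨e0, he0, rfl⟩
    rw [h, mem_bot, QuotientGroup.mk'_apply, QuotientGroup.eq_one_iff] at this
    exact this
  have hΦ4 : Nat.card Φ = 4 := by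
    have h1 := Subgroup.relIndex_ker f (K := S)
    rw [QuotientGroup.ker_mk', ← hT, hT16] at h1
    have h2 := Cfsg.Agent.Solvable.Basics.card_mul_relIndex hΦS
    rw [h1, hD] at h2
    omega
  have hΦz : Φ ≤ center G := monoidHom_trivial hD hG Φ hΦ4
  have hΦ2 : ∀ x ∈ Φ, x * x = 1 := by
    have hle : frattini S ≤ center S := fun x hx => mem_center_iff.mpr fun y =>
      Subtype.ext (mem_center_iff.mp (hΦz (mem_map_of_mem _ hx)) y)
    have heq : frattini S = center S := eq_of_le_of_card_ge hle (by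
      rw [hZ.card_four, ← card_map_of_injective (K := frattini S) S.subtype_injective, ← hΦ, hΦ4])
    rintro _ ⟨x, hx, rfl⟩
    rw [heq] at hx
    rw [← map_mul]
    have h2 := IsKleinFour.mul_self (G := center S) (⟨x, hx⟩)
    have h3 : x * x = 1 := congrArg Subtype.val h2
    rw [h3, map_one]
  have hcS' : ∀ x ∈ S, ∀ i, cj c x i ∈ S := fun x hx i => (inferInstance : S.Normal).conj_mem x hx _
  have hzc : ∀ x ∈ Φ, ∀ g : G, Commute g x := fun x hx g => mem_center_iff.mp (hΦz hx) g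
  -- the product of the five conjugates
  set z0 := cj c e0 0 * cj c e0 1 * cj c e0 2 * cj c e0 3 * cj c e0 4 with hz0
  have hz0S : z0 ∈ S :=
    S.mul_mem (S.mul_mem (S.mul_mem (S.mul_mem (hcS' _ he0 0) (hcS' _ he0 1)) (hcS' _ he0 2)) (hcS' _ he0 3))
      (hcS' _ he0 4)
  have hz0Φ : z0 ∈ Φ := by
    rw [← QuotientGroup.eq_one_iff, ← QuotientGroup.mk'_apply]
    refine hfix _ ⟨z0, hz0S, rfl⟩ ?_
    have h5 : cj c e0 5 = cj c e0 0 := by simp [cj, ← hc, pow_orderOf_eq_one]
    have e1 : c * z0 * c⁻¹ = (cj c e0 0)⁻¹ * z0 * cj c e0 0 := by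
      rw [← h5]
      nth_rw 1 [hz0]
      rw [show c * (cj c e0 0 * cj c e0 1 * cj c e0 2 * cj c e0 3 * cj c e0 4) * c⁻¹ =
        (c * cj c e0 0 * c⁻¹) * (c * cj c e0 1 * c⁻¹) * (c * cj c e0 2 * c⁻¹) * (c * cj c e0 3 * c⁻¹) *
          (c * cj c e0 4 * c⁻¹) by group]
      simp only [cj_conj]
      rw [h5, hz0]
      group
    rw [← map_inv, ← map_mul, ← map_mul, e1, map_mul, map_mul, mul_assoc,
      (hTab (f z0) ⟨z0, hz0S, rfl⟩ _ ⟨_, hcS' _ he0 0, rfl⟩).eq, ← mul_assoc, map_inv, inv_mul_cancel, one_mul]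
  set e := e0 * z0 with he
  have heS : e ∈ S := S.mul_mem he0 hz0S
  have hcje : ∀ i, cj c e i = cj c e0 i * z0 := fun i => by
    calc cj c e i = c ^ i * e0 * (z0 * (c ^ i)⁻¹) := by rw [cj, he]; group
      _ = c ^ i * e0 * ((c ^ i)⁻¹ * z0) := by rw [(hzc z0 hz0Φ ((c ^ i)⁻¹)).eq]
      _ = _ := by rw [cj]; group
  refine ⟨c, e, ⟨hc ▸ pow_orderOf_eq_one c, hΦ2 _ (hsq e heS), hzc _ (hsq e heS) c,
    hzc _ (hcomm _ (hcS' e heS 0) _ (hcS' e heS 1)) c, hzc _ (hcomm _ (hcS' e heS 0) _ (hcS' e heS 2)) c,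
    hzc _ (hcomm _ (hcS' e heS 0) _ (hcS' e heS 1)) e, hzc _ (hcomm _ (hcS' e heS 0) _ (hcS' e heS 2)) e,
    hΦ2 _ (hcomm _ (hcS' e heS 0) _ (hcS' e heS 1)), hΦ2 _ (hcomm _ (hcS' e heS 0) _ (hcS' e heS 2)), ?_⟩, ?_⟩
  · simp only [hcje]
    have hq : ∀ g h : G, g * z0 * h = g * h * z0 := fun g h => by
      rw [mul_assoc, ← (hzc z0 hz0Φ h).eq, ← mul_assoc]
    simp only [← mul_assoc]
    simp only [hq]
    rw [← hz0]
    calc z0 * z0 * z0 * z0 * z0 * z0 = (z0 * z0) * (z0 * z0) * (z0 * z0) := by group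
      _ = 1 := by rw [hΦ2 z0 hz0Φ]; simp
  -- generation
  set K := closure ({c, e} : Set G)
  have hcK : c ∈ K := Subgroup.subset_closure (Or.inl rfl)
  have heK : e ∈ K := Subgroup.subset_closure (Or.inr rfl)
  have hW : f c ∈ normalizer (((K ⊓ S).map f : Subgroup (G ⧸ Φ)) : Set (G ⧸ Φ)) := by
    refine le_normalizer_map f ⟨c, ?_, rfl⟩
    refine mem_normalizer_iff.mpr fun x => ?_
    simp only [mem_inf]
    rw [K.mul_mem_cancel_right (K.inv_mem hcK), K.mul_mem_cancel_left hcK]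
    exact and_congr Iff.rfl
      ⟨fun h => (inferInstance : S.Normal).conj_mem x h c, fun h => by
        simpa [mul_assoc] using (inferInstance : S.Normal).conj_mem _ h c⁻¹⟩
  have hWne : (K ⊓ S).map f ≠ ⊥ := fun h => he0' (by
    have h1 : f e ∈ (K ⊓ S).map f := ⟨e, ⟨heK, heS⟩, rfl⟩
    rw [h, mem_bot, QuotientGroup.mk'_apply, QuotientGroup.eq_one_iff] at h1
    exact (Φ.mul_mem_cancel_right hz0Φ).mp h1)
  have hWT : (K ⊓ S).map f = T := eq_of_le_of_card_ge (map_mono inf_le_right)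
    (by rw [h16 _ (map_mono inf_le_right) hWne hW, hT16])
  have hSK : S ≤ K := by
    have h1 : (K ⊓ S).subgroupOf S ⊔ frattini S = ⊤ := by
      rw [eq_top_iff]
      intro x _
      have hx : f x.1 ∈ (K ⊓ S).map f := hWT.symm ▸ ⟨x.1, x.2, rfl⟩
      obtain ⟨y, hy, hyx⟩ := hx
      obtain ⟨w, hw, hwe⟩ := (QuotientGroup.mk'_eq_mk' Φ).mp hyx
      obtain ⟨u, hu, rfl⟩ := hw
      have : x = ⟨y, hy.2⟩ * u := Subtype.ext hwe.symm
      rw [this]
      exact mul_mem_sup hy hu
    have h2 := frattini_nongenerating h1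
    intro x hx
    exact (h2 ▸ mem_top (⟨x, hx⟩ : S) : (⟨x, hx⟩ : S) ∈ (K ⊓ S).subgroupOf S).1
  rw [eq_top_iff, ← hSc]
  exact sup_le hSK (zpowers_le.mpr hcK)

end Abstract

end Cfsg.Agent.Techniques.Order320
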