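import Cfsg.Agent.Recognition.U34.Data

/-!
Coded elements of `SU(3,4)`: an involution, two generators of its centralizer, and 66 conjugates with conjugators.
-/

set_option autoImplicit false

namespace Cfsg.Agent.Techniques.Order320

open Cfsg.Agent.Recognition.U34

def tCode : M3 := ((0, 1, 0), (1, 0, 0), (0, 0, 1))

def cCode : M3 := ((3, 15, 11), (15, 3, 11), (11, 11, 8))

def eCode : M3 := ((4, 5, 10), (5, 4, 10), (12, 12, 1))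

def conjs : List (M3 × M3) := [
  (((0, 1, 0), (1, 0, 0), (0, 0, 1)), ((1, 0, 0), (0, 1, 0), (0, 0, 1))),
  (((0, 11, 5), (13, 7, 12), (4, 10, 6)), ((13, 7, 1), (12, 7, 11), (2, 12, 7))),
  (((7, 13, 12), (11, 0, 5), (10, 4, 6)), ((12, 7, 11), (13, 7, 1), (2, 12, 7))),
  (((0, 13, 6), (11, 7, 15), (6, 8, 6)), ((11, 7, 8), (10, 7, 2), (2, 12, 7))),
  (((0, 11, 6), (13, 7, 8), (6, 15, 6)), ((14, 15, 14), (4, 9, 12), (8, 14, 9))),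
  (((7, 11, 15), (13, 0, 6), (8, 6, 6)), ((10, 7, 2), (11, 7, 8), (2, 12, 7))),
  (((7, 13, 8), (11, 0, 6), (15, 6, 6)), ((4, 9, 12), (14, 15, 14), (8, 14, 9))),
  (((0, 13, 4), (11, 7, 10), (5, 12, 6)), ((7, 8, 2), (13, 14, 0), (8, 14, 9))),
  (((7, 15, 3), (8, 6, 4), (2, 5, 0)), ((4, 15, 6), (15, 9, 14), (6, 14, 15))),
  (((0, 11, 14), (13, 7, 10), (9, 12, 6)), ((7, 15, 11), (11, 9, 0), (10, 14, 14))),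
  (((6, 2, 0), (3, 6, 0), (0, 0, 1)), ((13, 3, 1), (12, 10, 10), (7, 7, 10))),
  (((7, 11, 10), (13, 0, 4), (12, 5, 6)), ((13, 14, 0), (7, 8, 2), (8, 14, 9))),
  (((6, 8, 4), (15, 7, 3), (5, 2, 0)), ((15, 9, 14), (4, 15, 6), (6, 14, 15))),
  (((7, 13, 10), (11, 0, 14), (12, 9, 6)), ((11, 9, 0), (7, 15, 11), (10, 14, 14))),
  (((6, 3, 0), (2, 6, 0), (0, 0, 1)), ((12, 10, 10), (13, 3, 1), (7, 7, 10))),
  (((7, 8, 2), (15, 6, 5), (3, 4, 0)), ((11, 8, 3), (0, 14, 11), (6, 14, 15))),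
  (((0, 13, 5), (11, 7, 1), (4, 1, 6)), ((9, 8, 4), (5, 14, 15), (10, 14, 14))),
  (((7, 5, 0), (4, 7, 0), (0, 0, 1)), ((11, 0, 14), (10, 9, 5), (7, 7, 10))),
  (((7, 15, 11), (8, 6, 6), (13, 6, 0)), ((13, 15, 3), (0, 9, 2), (4, 14, 8))),
  (((0, 7, 6), (7, 7, 1), (6, 1, 6)), ((5, 10, 6), (14, 5, 15), (1, 5, 5))),
  (((0, 4, 2), (5, 6, 10), (3, 12, 7)), ((8, 0, 0), (0, 14, 7), (0, 11, 14))),
  (((0, 7, 4), (7, 7, 15), (5, 8, 6)), ((12, 3, 11), (1, 10, 1), (1, 7, 3))),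
  (((0, 4, 13), (5, 6, 12), (11, 10, 7)), ((11, 3, 8), (4, 10, 5), (0, 7, 9))),
  (((7, 10, 11), (12, 6, 5), (13, 4, 0)), ((11, 0, 4), (5, 0, 13), (0, 1, 0))),
  (((6, 15, 5), (8, 7, 2), (4, 3, 0)), ((0, 14, 11), (11, 8, 3), (6, 14, 15))),
  (((7, 11, 1), (13, 0, 5), (1, 4, 6)), ((5, 14, 15), (9, 8, 4), (10, 14, 14))),
  (((7, 4, 0), (5, 7, 0), (0, 0, 1)), ((10, 9, 5), (11, 0, 14), (7, 7, 10))),
  (((6, 8, 6), (15, 7, 11), (6, 13, 0)), ((0, 9, 2), (13, 15, 3), (4, 14, 8))),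
  (((7, 7, 1), (7, 0, 6), (1, 6, 6)), ((14, 5, 15), (5, 10, 6), (1, 5, 5))),
  (((6, 5, 10), (4, 0, 2), (12, 3, 7)), ((0, 14, 7), (8, 0, 0), (0, 11, 14))),
  (((7, 7, 15), (7, 0, 4), (8, 5, 6)), ((1, 10, 1), (12, 3, 11), (1, 7, 3))),
  (((6, 5, 12), (4, 0, 13), (10, 11, 7)), ((4, 10, 5), (11, 3, 8), (0, 7, 9))),
  (((6, 12, 5), (10, 7, 11), (4, 13, 0)), ((5, 0, 13), (11, 0, 4), (0, 1, 0))),
  (((7, 8, 3), (15, 6, 14), (2, 9, 0)), ((5, 8, 5), (8, 14, 4), (4, 14, 8))),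
  (((6, 0, 7), (0, 1, 0), (7, 0, 6)), ((10, 14, 5), (1, 1, 12), (1, 5, 5))),
  (((0, 5, 7), (4, 6, 15), (7, 8, 7)), ((13, 2, 1), (5, 12, 6), (0, 11, 14))),
  (((6, 0, 11), (0, 1, 0), (13, 0, 6)), ((4, 0, 2), (9, 9, 8), (1, 7, 3))),
  (((0, 5, 11), (4, 6, 10), (13, 12, 7)), ((15, 0, 0), (0, 9, 13), (0, 7, 9))),
  (((6, 10, 9), (12, 7, 7), (14, 7, 0)), ((9, 0, 7), (7, 0, 14), (0, 1, 0))),
  (((6, 1, 4), (1, 7, 11), (5, 13, 0)), ((0, 9, 7), (2, 1, 2), (6, 9, 1))),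
  (((6, 10, 14), (12, 7, 11), (9, 13, 0)), ((14, 10, 4), (8, 5, 6), (9, 5, 10))),
  (((1, 0, 0), (0, 0, 12), (0, 10, 0)), ((10, 10, 10), (9, 5, 12), (4, 5, 1))),
  (((6, 12, 9), (10, 7, 13), (14, 11, 0)), ((1, 5, 6), (14, 12, 4), (14, 6, 8))),
  (((1, 0, 0), (0, 0, 10), (0, 12, 0)), ((0, 0, 15), (2, 14, 0), (4, 11, 0))),
  (((0, 6, 2), (6, 6, 12), (3, 10, 7)), ((2, 13, 8), (10, 14, 14), (2, 0, 5))),
  (((6, 1, 9), (1, 7, 3), (14, 2, 0)), ((10, 3, 2), (9, 10, 14), (6, 7, 0))),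
  (((7, 1, 13), (1, 6, 5), (11, 4, 0)), ((1, 6, 6), (14, 8, 4), (9, 6, 12))),
  (((6, 14, 10), (9, 0, 13), (12, 11, 7)), ((2, 7, 8), (10, 5, 14), (3, 0, 14))),
  (((6, 10, 5), (12, 7, 3), (4, 2, 0)), ((5, 0, 2), (3, 0, 4), (0, 1, 0))),
  (((6, 8, 9), (15, 7, 2), (14, 3, 0)), ((9, 0, 3), (2, 0, 14), (0, 1, 0))),
  (((0, 14, 7), (9, 6, 10), (7, 12, 7)), ((14, 1, 4), (5, 11, 0), (12, 7, 11))),
  (((6, 15, 14), (8, 7, 3), (9, 2, 0)), ((8, 14, 4), (5, 8, 5), (4, 14, 8))),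
  (((1, 0, 0), (0, 6, 7), (0, 7, 6)), ((1, 1, 12), (10, 14, 5), (1, 5, 5))),
  (((6, 4, 15), (5, 0, 7), (8, 7, 7)), ((5, 12, 6), (13, 2, 1), (0, 11, 14))),
  (((1, 0, 0), (0, 6, 11), (0, 13, 6)), ((9, 9, 8), (4, 0, 2), (1, 7, 3))),
  (((6, 4, 10), (5, 0, 11), (12, 13, 7)), ((0, 9, 13), (15, 0, 0), (0, 7, 9))),
  (((7, 12, 7), (10, 6, 9), (7, 14, 0)), ((7, 0, 14), (9, 0, 7), (0, 1, 0))),
  (((7, 1, 11), (1, 6, 4), (13, 5, 0)), ((2, 1, 2), (0, 9, 7), (6, 9, 1))),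
  (((7, 12, 11), (10, 6, 14), (13, 9, 0)), ((8, 5, 6), (14, 10, 4), (9, 5, 10))),
  (((0, 0, 12), (0, 1, 0), (10, 0, 0)), ((9, 5, 12), (10, 10, 10), (4, 5, 1))),
  (((7, 10, 13), (12, 6, 9), (11, 14, 0)), ((14, 12, 4), (1, 5, 6), (14, 6, 8))),
  (((0, 0, 10), (0, 1, 0), (12, 0, 0)), ((2, 14, 0), (0, 0, 15), (4, 11, 0))),
  (((6, 6, 12), (6, 0, 2), (10, 3, 7)), ((10, 14, 14), (2, 13, 8), (2, 0, 5))),
  (((7, 1, 3), (1, 6, 9), (2, 14, 0)), ((9, 10, 14), (10, 3, 2), (6, 7, 0))),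
  (((6, 1, 5), (1, 7, 13), (4, 11, 0)), ((14, 8, 4), (1, 6, 6), (9, 6, 12))),
  (((0, 9, 13), (14, 6, 10), (11, 12, 7)), ((10, 5, 14), (2, 7, 8), (3, 0, 14)))]

end Cfsg.Agent.Techniques.Order320
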