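import Cfsg.Agent.Techniques.Order320.Rel
import Cfsg.Agent.Techniques.Order320.Data
import Cfsg.Agent.Recognition.U34.Rep
import Cfsg.Agent.Lib.Classical.UnitaryGen

/-!
The centralizer of an involution in `SU(3,4)`.
-/

set_option autoImplicit false
set_option maxRecDepth 100000

namespace Cfsg.Agent.Techniques.Order320

open Subgroup
open scoped commutatorElement Pointwise

/-! ### The centralizer in `SU(3,4)` -/

section Model

open Matrix Cfsg.Agent.Recognition.U34 Cfsg.Agent.Classical.Unitary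

/-- The product of coded matrices. -/
def mmul (A B : M3) : M3 :=
  let p := (B.1.1, B.2.1.1, B.2.2.1)
  let q := (B.1.2.1, B.2.1.2.1, B.2.2.2.1)
  let r := (B.1.2.2, B.2.1.2.2, B.2.2.2.2)
  ((dot3 A.1 p, dot3 A.1 q, dot3 A.1 r), (dot3 A.2.1 p, dot3 A.2.1 q, dot3 A.2.1 r),
    (dot3 A.2.2 p, dot3 A.2.2 q, dot3 A.2.2 r))

/-- The coded identity. -/
def one3 : M3 := ((1, 0, 0), (0, 1, 0), (0, 0, 1))

/-- The coded power. -/
def mpow (A : M3) : ℕ → M3
  | 0 => one3
  | n + 1 => mmul (mpow A n) A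

/-- All entries are codes. -/
def small3 (A : M3) : Bool := small A.1 && small A.2.1 && small A.2.2

theorem small3_iff (A : M3) : small3 A = true ↔ small A.1 = true ∧ small A.2.1 = true ∧ small A.2.2 = true := by
  simp [small3, and_assoc]

theorem small_of_unitary {A : M3} (h : Recognition.U34.unitary A = true) : small3 A = true := by
  simp only [Recognition.U34.unitary, Bool.and_eq_true] at h
  exact (small3_iff A).2 ⟨h.1.1.1.1, h.1.1.1.2, h.1.1.2⟩

variable {F : Type*} [Field F] [Fintype F] (C : Coding F)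

/-- A group element with a given code. -/
def Rep (g : Cfsg.SU 3 F 4) (A : M3) : Prop := small3 A = true ∧ mat g = matF C A

theorem small3_mmul (A B : M3) : small3 (mmul A B) = true :=
  (small3_iff _).2 ⟨(Recognition.U34.small_iff _).2 ⟨dot3_lt _ _, dot3_lt _ _, dot3_lt _ _⟩,
    (Recognition.U34.small_iff _).2 ⟨dot3_lt _ _, dot3_lt _ _, dot3_lt _ _⟩, (Recognition.U34.small_iff _).2 ⟨dot3_lt _ _, dot3_lt _ _, dot3_lt _ _⟩⟩

theorem matF_mmul {A B : M3} (hA : small3 A = true) (hB : small3 B = true) :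
    matF C A * matF C B = matF C (mmul A B) := by
  obtain ⟨a0, a1, a2⟩ := (small3_iff A).1 hA
  obtain ⟨b0, b1, b2⟩ := (small3_iff B).1 hB
  obtain ⟨p0, q0, r0⟩ := (Recognition.U34.small_iff _).1 b0
  obtain ⟨p1, q1, r1⟩ := (Recognition.U34.small_iff _).1 b1
  obtain ⟨p2, q2, r2⟩ := (Recognition.U34.small_iff _).1 b2
  have sp : small (B.1.1, B.2.1.1, B.2.2.1) = true := (Recognition.U34.small_iff _).2 ⟨p0, p1, p2⟩
  have sq : small (B.1.2.1, B.2.1.2.1, B.2.2.2.1) = true := (Recognition.U34.small_iff _).2 ⟨q0, q1, q2⟩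
  have sr : small (B.1.2.2, B.2.1.2.2, B.2.2.2.2) = true := (Recognition.U34.small_iff _).2 ⟨r0, r1, r2⟩
  ext i j
  fin_cases i <;> fin_cases j <;>
    simp [matF, mmul, Matrix.mul_apply, Fin.sum_univ_three, φ_dot3 C _ _ a0 sp, φ_dot3 C _ _ a0 sq,
      φ_dot3 C _ _ a0 sr, φ_dot3 C _ _ a1 sp, φ_dot3 C _ _ a1 sq, φ_dot3 C _ _ a1 sr, φ_dot3 C _ _ a2 sp,
      φ_dot3 C _ _ a2 sq, φ_dot3 C _ _ a2 sr]

theorem eq_of_mat {g h : Cfsg.SU 3 F 4} (e : mat g = mat h) : g = h := SU_ext fun x => by rw [e]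

theorem Rep.mul {g h : Cfsg.SU 3 F 4} {A B : M3} (hg : Rep C g A) (hh : Rep C h B) : Rep C (g * h) (mmul A B) := by
  refine ⟨small3_mmul A B, ?_⟩
  have : mat (g * h) = mat g * mat h := Matrix.ext_of_mulVec_single fun i => by
    rw [mul_mulVec, Matrix.mulVec_mulVec]
  rw [this, hg.2, hh.2, matF_mmul C hg.1 hh.1]

theorem rep_one : Rep C (1 : Cfsg.SU 3 F 4) one3 := by
  refine ⟨by decide, ?_⟩
  rw [mat_one]
  ext i j
  fin_cases i <;> fin_cases j <;> simp [matF, one3, C.zero, C.one]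

theorem Rep.pow {g : Cfsg.SU 3 F 4} {A : M3} (hg : Rep C g A) : ∀ n, Rep C (g ^ n) (mpow A n)
  | 0 => by rw [pow_zero]; exact rep_one C
  | n + 1 => by rw [pow_succ]; exact (Rep.pow hg n).mul C hg

theorem Rep.inj {g : Cfsg.SU 3 F 4} {A B : M3} (hA : Rep C g A) (hB : Rep C g B) : A = B := by
  have e : matF C A = matF C B := hA.2.symm.trans hB.2
  obtain ⟨a0, a1, a2⟩ := (small3_iff A).1 hA.1
  obtain ⟨b0, b1, b2⟩ := (small3_iff B).1 hB.1
  obtain ⟨x0, x1, x2⟩ := (Recognition.U34.small_iff _).1 a0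
  obtain ⟨x3, x4, x5⟩ := (Recognition.U34.small_iff _).1 a1
  obtain ⟨x6, x7, x8⟩ := (Recognition.U34.small_iff _).1 a2
  obtain ⟨y0, y1, y2⟩ := (Recognition.U34.small_iff _).1 b0
  obtain ⟨y3, y4, y5⟩ := (Recognition.U34.small_iff _).1 b1
  obtain ⟨y6, y7, y8⟩ := (Recognition.U34.small_iff _).1 b2
  have k : ∀ i j, matF C A i j = matF C B i j := fun i j => by rw [e]
  exact Prod.ext
    (Prod.ext (C.inj _ _ x0 y0 (k 0 0)) (Prod.ext (C.inj _ _ x1 y1 (k 0 1)) (C.inj _ _ x2 y2 (k 0 2))))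
    (Prod.ext
      (Prod.ext (C.inj _ _ x3 y3 (k 1 0)) (Prod.ext (C.inj _ _ x4 y4 (k 1 1)) (C.inj _ _ x5 y5 (k 1 2))))
      (Prod.ext (C.inj _ _ x6 y6 (k 2 0)) (Prod.ext (C.inj _ _ x7 y7 (k 2 1)) (C.inj _ _ x8 y8 (k 2 2)))))

theorem Rep.eq {g h : Cfsg.SU 3 F 4} {A : M3} (hg : Rep C g A) (hh : Rep C h A) : g = h :=
  eq_of_mat (hg.2.trans hh.2.symm)

theorem Rep.inv {g : Cfsg.SU 3 F 4} {A : M3} (hg : Rep C g A) (n : ℕ) (h : mpow A (n + 1) = one3) :
    Rep C g⁻¹ (mpow A n) := by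
  have h1 : g ^ (n + 1) = 1 := (hg.pow C (n + 1)).eq C (h ▸ rep_one C)
  rw [inv_eq_of_mul_eq_one_left (by rw [← pow_succ, h1])]
  exact hg.pow C n

/-- The coded conjugates. -/
def xCode (i : ℕ) : M3 := mmul (mmul (mpow cCode i) eCode) (mpow cCode (4 * i))

/-- The coded commutator of two elements of exponent four. -/
def kCode (A B : M3) : M3 := mmul (mmul (mmul A B) (mpow A 3)) (mpow B 3)

/-- The coded square of `eCode`. -/
def zCode : M3 := mmul eCode eCode

/-- The coded normal form. -/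
def word (s : List ℕ) : M3 :=
  mmul (mmul (mmul (mmul (mmul (mmul (mpow zCode (s.getD 0 0))
    (mpow (kCode (xCode 0) (xCode 1)) (s.getD 1 0))) (mpow (xCode 0) (s.getD 2 0)))
    (mpow (xCode 1) (s.getD 3 0))) (mpow (xCode 2) (s.getD 4 0))) (mpow (xCode 3) (s.getD 5 0)))
    (mpow cCode (s.getD 6 0))

/-- The exponents of the normal forms. -/
def exps : List (List ℕ) :=
  [0, 1].flatMap fun a => [0, 1].flatMap fun b => [0, 1].flatMap fun i => [0, 1].flatMap fun j =>
    [0, 1].flatMap fun k => [0, 1].flatMap fun l => [0, 1, 2, 3, 4].map fun r => [a, b, i, j, k, l, r]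

theorem codes_unitary : Recognition.U34.unitary cCode = true ∧ Recognition.U34.unitary eCode = true ∧ Recognition.U34.unitary tCode = true := by decide +kernel

theorem codes_rel : mpow cCode 5 = one3 ∧ mpow eCode 4 = one3 ∧ mmul zCode zCode = one3 ∧
    mmul cCode zCode = mmul zCode cCode ∧
    mmul cCode (kCode (xCode 0) (xCode 1)) = mmul (kCode (xCode 0) (xCode 1)) cCode ∧
    mmul cCode (kCode (xCode 0) (xCode 2)) = mmul (kCode (xCode 0) (xCode 2)) cCode ∧
    mmul eCode (kCode (xCode 0) (xCode 1)) = mmul (kCode (xCode 0) (xCode 1)) eCode ∧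
    mmul eCode (kCode (xCode 0) (xCode 2)) = mmul (kCode (xCode 0) (xCode 2)) eCode ∧
    mmul (kCode (xCode 0) (xCode 1)) (kCode (xCode 0) (xCode 1)) = one3 ∧
    mmul (kCode (xCode 0) (xCode 2)) (kCode (xCode 0) (xCode 2)) = one3 ∧
    mmul (mmul (mmul (mmul (xCode 0) (xCode 1)) (xCode 2)) (xCode 3)) (xCode 4) = one3 ∧
    zCode = tCode ∧ tCode ≠ one3 := by
  refine ⟨?_, ?_, ?_, ?_, ?_, ?_, ?_, ?_, ?_, ?_, ?_, ?_, ?_⟩ <;> decide +kernel

theorem xCode_order : ∀ i < 5, mpow (xCode i) 4 = one3 := by decide +kernel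

theorem words_nodup : (exps.map word).Nodup ∧ exps.length = 320 := by decide +kernel

theorem conjs_ok : (conjs.all fun p => Recognition.U34.unitary p.1 && Recognition.U34.unitary p.2 && decide (mmul p.2 tCode = mmul p.1 p.2)) = true ∧
    (conjs.map Prod.fst).Nodup ∧ conjs.length = 66 := by decide +kernel

theorem exists_centralizer (hF : Fintype.card F = 4 ^ 2) :
    ∃ (t c e : Cfsg.SU 3 F 4), orderOf t = 2 ∧ Rel c e ∧ Nat.card (closure ({c, e} : Set (Cfsg.SU 3 F 4))) = 320 ∧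
      closure ({c, e} : Set (Cfsg.SU 3 F 4)) = centralizer ({t} : Set (Cfsg.SU 3 F 4)) := by
  classical
  obtain ⟨C⟩ := exists_coding (F := F) (by rw [hF]; norm_num)
  obtain ⟨c, hc', -⟩ := exists_elem hF C _ codes_unitary.1
  obtain ⟨e, he', -⟩ := exists_elem hF C _ codes_unitary.2.1
  have hc : Rep C c cCode := ⟨small_of_unitary codes_unitary.1, hc'⟩
  have he : Rep C e eCode := ⟨small_of_unitary codes_unitary.2.1, he'⟩
  obtain ⟨r5, r4, rzz, rcz, rcA, rcB, reA, reB, rAA, rBB, rprod, rzt, rt1⟩ := codes_rel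
  have hcinv : ∀ i, i < 5 → Rep C (c ^ i)⁻¹ (mpow cCode (4 * i)) := fun i _ => by
    rw [← inv_pow, inv_eq_of_mul_eq_one_left (a := c ^ 4) (b := c)
      (by rw [← pow_succ]; exact (hc.pow C 5).eq C (r5 ▸ rep_one C)), ← pow_mul]
    exact hc.pow C _
  have hx : ∀ i, i < 5 → Rep C (cj c e i) (xCode i) := fun i hi => ((hc.pow C i).mul C he).mul C (hcinv i hi)
  have hxinv : ∀ i, i < 5 → Rep C (cj c e i)⁻¹ (mpow (xCode i) 3) := fun i hi =>
    (hx i hi).inv C 3 (xCode_order i hi)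
  have hk : ∀ i j, i < 5 → j < 5 → Rep C ⁅cj c e i, cj c e j⁆ (kCode (xCode i) (xCode j)) := fun i j hi hj => by
    rw [commutatorElement_def]
    exact (((hx i hi).mul C (hx j hj)).mul C (hxinv i hi)).mul C (hxinv j hj)
  have hz : Rep C (e * e) zCode := he.mul C he
  have h01 := hk 0 1 (by norm_num) (by norm_num)
  have h02 := hk 0 2 (by norm_num) (by norm_num)
  have hR : Rel c e :=
    { c5 := (hc.pow C 5).eq C (r5 ▸ rep_one C)
      e4 := (hz.mul C hz).eq C (rzz ▸ rep_one C)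
      ce := (hc.mul C hz).eq C (rcz ▸ hz.mul C hc)
      cA := (hc.mul C h01).eq C (rcA ▸ h01.mul C hc)
      cB := (hc.mul C h02).eq C (rcB ▸ h02.mul C hc)
      eA := (he.mul C h01).eq C (reA ▸ h01.mul C he)
      eB := (he.mul C h02).eq C (reB ▸ h02.mul C he)
      A2 := (h01.mul C h01).eq C (rAA ▸ rep_one C)
      B2 := (h02.mul C h02).eq C (rBB ▸ rep_one C)
      prod := ((((hx 0 (by norm_num)).mul C (hx 1 (by norm_num))).mul C (hx 2 (by norm_num))).mul C
        (hx 3 (by norm_num))).mul C (hx 4 (by norm_num)) |>.eq C (rprod ▸ rep_one C) }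
  set K := closure ({c, e} : Set (Cfsg.SU 3 F 4))
  have hcK : c ∈ K := Subgroup.subset_closure (Or.inl rfl)
  have heK : e ∈ K := Subgroup.subset_closure (Or.inr rfl)
  have hxK : ∀ i, cj c e i ∈ K := fun i =>
    K.mul_mem (K.mul_mem (K.pow_mem hcK i) heK) (K.inv_mem (K.pow_mem hcK i))
  -- the normal forms
  let el : List ℕ → Cfsg.SU 3 F 4 := fun s =>
    (e * e) ^ s.getD 0 0 * ⁅cj c e 0, cj c e 1⁆ ^ s.getD 1 0 * cj c e 0 ^ s.getD 2 0 * cj c e 1 ^ s.getD 3 0 *
      cj c e 2 ^ s.getD 4 0 * cj c e 3 ^ s.getD 5 0 * c ^ s.getD 6 0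
  have hel : ∀ s, Rep C (el s) (word s) := fun s =>
    ((((((hz.pow C _).mul C (h01.pow C _)).mul C ((hx 0 (by norm_num)).pow C _)).mul C
      ((hx 1 (by norm_num)).pow C _)).mul C ((hx 2 (by norm_num)).pow C _)).mul C
      ((hx 3 (by norm_num)).pow C _)).mul C (hc.pow C _)
  have helK : ∀ s, el s ∈ K := fun s =>
    K.mul_mem (K.mul_mem (K.mul_mem (K.mul_mem (K.mul_mem (K.mul_mem (K.pow_mem (K.mul_mem heK heK) _)
      (K.pow_mem (by rw [commutatorElement_def]; exact K.mul_mem (K.mul_mem (K.mul_mem (hxK 0) (hxK 1))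
        (K.inv_mem (hxK 0))) (K.inv_mem (hxK 1))) _)) (K.pow_mem (hxK 0) _)) (K.pow_mem (hxK 1) _))
      (K.pow_mem (hxK 2) _)) (K.pow_mem (hxK 3) _)) (K.pow_mem hcK _)
  have hK : Nat.card K = 320 := by
    refine le_antisymm (card_closure_le hR) ?_
    let φ : Fin exps.length → K := fun i => ⟨el exps[i.1], helK _⟩
    have hφ : Function.Injective φ := fun i j hij => by
      have e1 : el exps[i.1] = el exps[j.1] := congrArg Subtype.val hij
      have e2 : word exps[i.1] = word exps[j.1] := (hel _).inj C (e1 ▸ hel _)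
      apply Fin.ext
      have hn := List.Nodup.getElem_inj_iff words_nodup.1 (i := i.1) (j := j.1) (hi := by simp) (hj := by simp)
      simp only [List.getElem_map] at hn
      exact hn.1 e2
    have := Nat.card_le_card_of_injective φ hφ
    rwa [Nat.card_eq_fintype_card, Fintype.card_fin, words_nodup.2] at this
  -- the involution
  set t := e * e
  have ht : Rep C t tCode := rzt ▸ hz
  have ht1 : t ≠ 1 := fun h => rt1 (ht.inj C (h ▸ rep_one C))
  have hord : orderOf t = 2 := orderOf_eq_prime (by rw [pow_two]; exact hR.e4) ht1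
  have hle : K ≤ centralizer ({t} : Set (Cfsg.SU 3 F 4)) := by
    rw [closure_le]
    rintro x (rfl | rfl) <;> rw [SetLike.mem_coe, mem_centralizer_singleton_iff]
    · exact hR.ce.eq
    · show x * (x * x) = x * x * x
      rw [mul_assoc]
  refine ⟨t, c, e, hord, hR, hK, eq_of_le_of_card_ge hle ?_⟩
  set Z := centralizer ({t} : Set (Cfsg.SU 3 F 4))
  have hcard : Nat.card (Cfsg.SU 3 F 4) = 62400 := by
    have h := natCard_SU_mul hF (n := 3) (by norm_num)
    rw [Cfsg.Agent.Classical.Unitary.natCard_GU hF] at h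
    simp only [Finset.prod_range_succ, Finset.prod_range_zero] at h
    norm_num [Nat.even_iff] at h
    rw [Nat.card_eq_fintype_card]
    omega
  have hidx : 66 ≤ Z.index := by
    have hp : ∀ i : Fin conjs.length, ∃ g a : Cfsg.SU 3 F 4,
        Rep C g conjs[i.1].2 ∧ Rep C a conjs[i.1].1 ∧ g * t = a * g := by
      intro i
      have h := List.all_eq_true.1 conjs_ok.1 conjs[i.1] (List.getElem_mem _)
      simp only [Bool.and_eq_true, decide_eq_true_eq] at h
      obtain ⟨g, hg, -⟩ := exists_elem hF C _ h.1.2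
      obtain ⟨a, ha, -⟩ := exists_elem hF C _ h.1.1
      have hg' : Rep C g conjs[i.1].2 := ⟨small_of_unitary h.1.2, hg⟩
      have ha' : Rep C a conjs[i.1].1 := ⟨small_of_unitary h.1.1, ha⟩
      exact ⟨g, a, hg', ha', (hg'.mul C ht).eq C (h.2 ▸ ha'.mul C hg')⟩
    choose g a hg ha hga using hp
    let φ : Fin conjs.length → Cfsg.SU 3 F 4 ⧸ Z := fun i => QuotientGroup.mk (g i)
    have hφ : Function.Injective φ := fun i j hij => by
      have h1 : (g i)⁻¹ * g j * t = t * ((g i)⁻¹ * g j) := mem_centralizer_singleton_iff.mp (QuotientGroup.eq.mp hij)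
      have e1 : a i = a j := by
        calc a i = g i * t * (g i)⁻¹ := by rw [hga, mul_inv_cancel_right]
          _ = g i * (t * ((g i)⁻¹ * g j)) * (g j)⁻¹ := by group
          _ = g i * ((g i)⁻¹ * g j * t) * (g j)⁻¹ := by rw [h1]
          _ = g j * t * (g j)⁻¹ := by group
          _ = a j := by rw [hga, mul_inv_cancel_right]
      have e2 : conjs[i.1].1 = conjs[j.1].1 := (ha i).inj C (e1 ▸ ha j)
      apply Fin.ext
      have hn := List.Nodup.getElem_inj_iff conjs_ok.2.1 (i := i.1) (j := j.1) (hi := by simp) (hj := by simp)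
      simp only [List.getElem_map] at hn
      exact hn.1 e2
    have := Nat.card_le_card_of_injective φ hφ
    rwa [Nat.card_eq_fintype_card, Fintype.card_fin, conjs_ok.2.2] at this
  obtain ⟨k, hk⟩ := card_dvd_of_le hle
  have h1 := Z.card_mul_index
  rw [hcard] at h1
  rw [hK] at hk ⊢
  by_contra h
  have hk2 : 2 ≤ k := by
    by_contra h'
    interval_cases k <;> omega
  have : 320 * 2 * 66 ≤ 320 * k * Z.index := Nat.mul_le_mul (Nat.mul_le_mul le_rfl hk2) hidx
  rw [← hk, h1] at this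
  by_cases hk3 : 3 ≤ k
  · have : 320 * 3 * 66 ≤ 320 * k * Z.index := Nat.mul_le_mul (Nat.mul_le_mul le_rfl hk3) hidx
    rw [← hk, h1] at this
    omega
  · have hk' : k = 2 := by omega
    subst hk'
    rw [hk] at h1
    omega

end Model

end Cfsg.Agent.Techniques.Order320
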