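import Mathlib
import Cfsg.Agent.Lib.Coprime.Basic

/-!
A presentation bound for a group of order 320.
-/

set_option autoImplicit false
set_option maxRecDepth 100000

namespace Cfsg.Agent.Techniques.Order320

open Subgroup
open scoped commutatorElement Pointwise

/-! ### Abstract relations -/

section Rel

variable {D : Type*} [Group D]

/-- The conjugates of `e`. -/
def cj (c e : D) (i : ℕ) : D := c ^ i * e * (c ^ i)⁻¹

/-- The relations. -/
structure Rel (c e : D) : Prop where
  c5 : c ^ 5 = 1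
  e4 : e * e * (e * e) = 1
  ce : Commute c (e * e)
  cA : Commute c ⁅cj c e 0, cj c e 1⁆
  cB : Commute c ⁅cj c e 0, cj c e 2⁆
  eA : Commute e ⁅cj c e 0, cj c e 1⁆
  eB : Commute e ⁅cj c e 0, cj c e 2⁆
  A2 : ⁅cj c e 0, cj c e 1⁆ * ⁅cj c e 0, cj c e 1⁆ = 1
  B2 : ⁅cj c e 0, cj c e 2⁆ * ⁅cj c e 0, cj c e 2⁆ = 1
  prod : cj c e 0 * cj c e 1 * cj c e 2 * cj c e 3 * cj c e 4 = 1

variable {c e : D}

theorem cj_conj (c e : D) (i : ℕ) : c * cj c e i * c⁻¹ = cj c e (i + 1) := by
  rw [cj, cj, pow_succ' c i]; group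

theorem cj_zero (c e : D) : cj c e 0 = e := by simp [cj]

theorem commute_cj {K : D} (hc : Commute c K) (he : Commute e K) (i : ℕ) : Commute (cj c e i) K :=
  ((hc.pow_left i).mul_left he).mul_left (hc.pow_left i).inv_left

theorem commutator_cj {K : D} (hK : Commute c K) {i j : ℕ} (h : ⁅cj c e i, cj c e j⁆ = K) (k : ℕ) :
    ⁅cj c e (i + k), cj c e (j + k)⁆ = K := by
  induction k with
  | zero => simpa using h
  | succ k ih =>
    have h1 : ⁅cj c e (i + (k + 1)), cj c e (j + (k + 1))⁆ = c * K * c⁻¹ := by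
      rw [← ih, ← add_assoc, ← add_assoc, ← cj_conj c e (i + k), ← cj_conj c e (j + k)]
      simp only [commutatorElement_def]; group
    rw [h1, hK.eq, mul_inv_cancel_right]

theorem mul_eq_of_commutator {x y K : D} (h : ⁅x, y⁆ = K) : x * y = K * (y * x) := by
  rw [← h, commutatorElement_def]; group

/-- Squares modulo central elements. -/
theorem sq_mul {x y K : D} (hK : Commute x K) (hK2 : K * K = 1) (h : x * y = K * (y * x)) :
    x * y * (x * y) = K * (x * x) * (y * y) := by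
  have h' : y * x = K * (x * y) := by rw [h, ← mul_assoc, hK2, one_mul]
  calc x * y * (x * y) = x * (y * x) * y := by group
    _ = x * (K * (x * y)) * y := by rw [h']
    _ = x * K * (x * (y * y)) := by group
    _ = K * x * (x * (y * y)) := by rw [hK.eq]
    _ = _ := by group

namespace Rel

variable (h : Rel c e)
include h

theorem A01 (k : ℕ) : ⁅cj c e (0 + k), cj c e (1 + k)⁆ = ⁅cj c e 0, cj c e 1⁆ := commutator_cj h.cA rfl k

theorem B02 (k : ℕ) : ⁅cj c e (0 + k), cj c e (2 + k)⁆ = ⁅cj c e 0, cj c e 2⁆ := commutator_cj h.cB rfl k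

theorem cj_five : cj c e 5 = e := by simp [cj, h.c5]

theorem B03 : ⁅cj c e 0, cj c e 3⁆ = ⁅cj c e 0, cj c e 2⁆ := by
  have h1 := h.B02 3
  norm_num at h1
  rw [h.cj_five] at h1
  rw [cj_zero, ← commutatorElement_inv, h1, inv_eq_iff_mul_eq_one]
  simpa [cj_zero] using h.B2

theorem sq_cj (i : ℕ) : cj c e i * cj c e i = e * e := by
  calc cj c e i * cj c e i = c ^ i * (e * e) * (c ^ i)⁻¹ := by rw [cj]; group
    _ = e * e := by rw [(h.ce.pow_left i).eq, mul_inv_cancel_right]

theorem sq_eq : e * e = ⁅cj c e 0, cj c e 1⁆ * ⁅cj c e 0, cj c e 2⁆ := by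
  set A := ⁅cj c e 0, cj c e 1⁆ with hA
  set B := ⁅cj c e 0, cj c e 2⁆ with hB
  set z := e * e with hz
  have hzz : z * z = 1 := h.e4
  have cz : ∀ i, Commute (cj c e i) z := fun i =>
    commute_cj h.ce ((Commute.refl e).mul_right (Commute.refl e)) i
  have cA : ∀ i, Commute (cj c e i) A := commute_cj h.cA h.eA
  have cB : ∀ i, Commute (cj c e i) B := commute_cj h.cB h.eB
  set a := cj c e 0
  set b := cj c e 1
  set x := cj c e 2
  set y := cj c e 3
  have eaA : a * A = A * a := cA 0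
  have eaB : a * B = B * a := cB 0
  have ebA : b * A = A * b := cA 1
  have m01 : a * b = A * (b * a) := mul_eq_of_commutator rfl
  have m12 : b * x = A * (x * b) := mul_eq_of_commutator (h.A01 1)
  have m23 : x * y = A * (y * x) := mul_eq_of_commutator (h.A01 2)
  have m02 : a * x = B * (x * a) := mul_eq_of_commutator rfl
  have m13 : b * y = B * (y * b) := mul_eq_of_commutator (h.B02 1)
  have m03 : a * y = B * (y * a) := mul_eq_of_commutator h.B03
  have hAB : Commute A B := by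
    rw [hA, commutatorElement_def]
    exact (((cB 0).mul_left (cB 1)).mul_left (cB 0).inv_left).mul_left (cB 1).inv_left
  have hzA : Commute z A := (h.eA).mul_left h.eA
  have hzB : Commute z B := (h.eB).mul_left h.eB
  have s1 : a * b * (a * b) = A := by
    rw [sq_mul (cA 0) h.A2 m01, h.sq_cj, h.sq_cj, mul_assoc, hzz, mul_one]
  have mx : a * b * x = A * B * (x * (a * b)) := by
    calc a * b * x = a * (b * x) := by group
      _ = a * A * x * b := by rw [m12]; group
      _ = A * (a * x) * b := by rw [eaA]; group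
      _ = A * (B * (x * a)) * b := by rw [m02]
      _ = _ := by group
  have s2 : a * b * x * (a * b * x) = B * z := by
    rw [sq_mul (((cA 0).mul_left (cA 1)).mul_right ((cB 0).mul_left (cB 1)))
      (by rw [mul_assoc, ← mul_assoc B A B, ← hAB.eq, mul_assoc A B B, h.B2, mul_one, h.A2]) mx, s1, h.sq_cj,
      hAB.eq, mul_assoc B A A, h.A2, mul_one]
  have my : a * b * x * y = A * (y * (a * b * x)) := by
    calc a * b * x * y = a * b * (x * y) := by group
      _ = a * (b * A) * y * x := by rw [m23]; group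
      _ = a * (A * b) * y * x := by rw [ebA]
      _ = a * A * (b * y) * x := by group
      _ = A * a * (B * (y * b)) * x := by rw [m13, eaA]
      _ = A * (a * B) * y * b * x := by group
      _ = A * B * (a * y) * b * x := by rw [eaB]; group
      _ = A * B * (B * (y * a)) * b * x := by rw [m03]
      _ = A * (B * B) * y * a * b * x := by group
      _ = _ := by rw [h.B2]; group
  have s3 : a * b * x * y * (a * b * x * y) = A * B := by
    rw [sq_mul (((cA 0).mul_left (cA 1)).mul_left (cA 2)) h.A2 my, s2, h.sq_cj, mul_assoc A (B * z) z,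
      mul_assoc B z z, hzz, mul_one]
  have hy : a * b * x * y = (cj c e 4)⁻¹ := eq_inv_of_mul_eq_one_left h.prod
  rw [hy, ← mul_inv_rev, h.sq_cj, inv_eq_of_mul_eq_one_left hzz] at s3
  exact s3

theorem cA' : ∀ i, Commute (cj c e i) ⁅cj c e 0, cj c e 1⁆ := commute_cj h.cA h.eA

theorem cB' : ∀ i, Commute (cj c e i) ⁅cj c e 0, cj c e 2⁆ := commute_cj h.cB h.eB

end Rel

/-- One step up by an element whose square lies below. -/
theorem card_sup_le_two [Finite D] (K : Subgroup D) {u : D} (hu : u ∈ normalizer (K : Set D))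
    (h2 : u * u ∈ K) : Nat.card ↥(K ⊔ zpowers u) ≤ Nat.card K * 2 := by
  have key : ∀ x ∈ K ⊔ zpowers u, x ∈ K ∨ ∃ k ∈ K, x = k * u := by
    intro x hx
    obtain ⟨k, hk, y, hy, rfl⟩ := (Coprime.mem_sup_of_le_normalizer (zpowers_le.mpr hu)).mp hx
    obtain ⟨m, rfl⟩ := mem_zpowers_iff.mp hy
    rcases Int.even_or_odd' m with ⟨n, rfl | rfl⟩
    · left
      rw [zpow_mul, zpow_two]
      exact K.mul_mem hk (K.zpow_mem h2 n)
    · right
      refine ⟨k * (u * u) ^ n, K.mul_mem hk (K.zpow_mem h2 n), ?_⟩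
      rw [zpow_add, zpow_mul, zpow_one, zpow_two, mul_assoc]
  let f : K ⊕ K → D := Sum.elim (fun k : K => k.1) fun k : K => k.1 * u
  have hsub : ((K ⊔ zpowers u : Subgroup D) : Set D) ⊆ Set.range f := fun x hx => by
    rcases key x hx with h | ⟨k, hk, rfl⟩
    · exact ⟨Sum.inl ⟨x, h⟩, rfl⟩
    · exact ⟨Sum.inr ⟨k, hk⟩, rfl⟩
  calc Nat.card ↥(K ⊔ zpowers u) ≤ Nat.card (Set.range f) := Nat.card_mono (Set.finite_range f) hsub
    _ ≤ Nat.card (K ⊕ K) := Finite.card_range_le f
    _ = _ := by rw [Nat.card_sum]; omega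

theorem mem_normalizer_closure [Finite D] {s : Set D} {g : D}
    (h : ∀ x ∈ s, g * x * g⁻¹ ∈ closure s) : g ∈ normalizer (closure s : Set D) := by
  have hle : (closure s).map (MulAut.conj g).toMonoidHom ≤ closure s := by
    rw [MonoidHom.map_closure, closure_le]
    rintro _ ⟨x, hx, rfl⟩
    exact h x hx
  rw [mem_normalizer_iff_map_conj_eq]
  exact eq_of_le_of_card_ge hle (card_map_of_injective (MulAut.conj g).injective).ge

theorem mem_normalizer_sup [Finite D] {K : Subgroup D} {u g : D} (hK : g ∈ normalizer (K : Set D))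
    (h : g * u * g⁻¹ ∈ K ⊔ zpowers u) : g ∈ normalizer ((K ⊔ zpowers u : Subgroup D) : Set D) := by
  have e : K ⊔ zpowers u = closure ((K : Set D) ∪ {u}) := by
    rw [Subgroup.closure_union, closure_eq, zpowers_eq_closure]
  rw [e] at h ⊢
  refine mem_normalizer_closure ?_
  rintro x (hx | rfl)
  · exact Subgroup.subset_closure (Or.inl ((mem_normalizer_iff.mp hK x).mp hx))
  · exact h

theorem card_closure_le [Finite D] (h : Rel c e) :
    Nat.card (closure ({c, e} : Set D)) ≤ 320 := by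
  set A := ⁅cj c e 0, cj c e 1⁆ with hA
  set B := ⁅cj c e 0, cj c e 2⁆ with hB
  set K0 := zpowers A ⊔ zpowers B
  have hABc : Commute A B := by
    rw [hA, commutatorElement_def]
    exact (((h.cB' 0).mul_left (h.cB' 1)).mul_left (h.cB' 0).inv_left).mul_left (h.cB' 1).inv_left
  have hA' : A ∈ K0 := mem_sup_left (mem_zpowers _)
  have hB' : B ∈ K0 := mem_sup_right (mem_zpowers _)
  have hz : e * e ∈ K0 := h.sq_eq ▸ K0.mul_mem hA' hB'
  have hK0 : Nat.card K0 ≤ 4 := by
    refine (card_sup_le_two (zpowers A) (centralizer_le_normalizer _ ?_) ?_).trans ?_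
    · rw [mem_centralizer_iff]
      rintro x hx
      obtain ⟨m, rfl⟩ := mem_zpowers_iff.mp hx
      exact (hABc.zpow_left m).eq
    · rw [h.B2]; exact one_mem _
    · rw [Nat.card_zpowers]
      have : orderOf A ≤ 2 := Nat.le_of_dvd two_pos (orderOf_dvd_of_pow_eq_one (by rw [pow_two, h.A2]))
      omega
  have hcentral : ∀ g : D, Commute g A → Commute g B → g ∈ centralizer (K0 : Set D) := by
    intro g h1 h2
    have : K0 ≤ centralizer ({g} : Set D) := sup_le
      (zpowers_le.mpr (mem_centralizer_singleton_iff.mpr h1.symm.eq))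
      (zpowers_le.mpr (mem_centralizer_singleton_iff.mpr h2.symm.eq))
    exact mem_centralizer_iff.mpr fun k hk => mem_centralizer_singleton_iff.mp (this hk)
  have hn0 : ∀ i, cj c e i ∈ normalizer (K0 : Set D) := fun i =>
    centralizer_le_normalizer _ (hcentral _ (h.cA' i) (h.cB' i))
  have hsq : ∀ i, cj c e i * cj c e i ∈ K0 := fun i => (h.sq_cj i).symm ▸ hz
  set K1 := K0 ⊔ zpowers (cj c e 0)
  set K2 := K1 ⊔ zpowers (cj c e 1)
  set K3 := K2 ⊔ zpowers (cj c e 2)
  set K4 := K3 ⊔ zpowers (cj c e 3)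
  have key : ∀ i j {K : Subgroup D}, K0 ≤ K → ⁅cj c e i, cj c e j⁆ ∈ K0 → cj c e i ∈ K →
      cj c e j * cj c e i * (cj c e j)⁻¹ ∈ K := by
    intro i j K hK hc hi
    have e1 : cj c e j * cj c e i * (cj c e j)⁻¹ = ⁅cj c e i, cj c e j⁆⁻¹ * cj c e i := by
      rw [commutatorElement_def]; group
    rw [e1]
    exact K.mul_mem (K.inv_mem (hK hc)) hi
  have h01 : ⁅cj c e 0, cj c e 1⁆ ∈ K0 := hA'
  have h02 : ⁅cj c e 0, cj c e 2⁆ ∈ K0 := hB'
  have h03 : ⁅cj c e 0, cj c e 3⁆ ∈ K0 := h.B03.symm ▸ hB'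
  have h12 : ⁅cj c e 1, cj c e 2⁆ ∈ K0 := (h.A01 1).symm ▸ hA'
  have h13 : ⁅cj c e 1, cj c e 3⁆ ∈ K0 := (h.B02 1).symm ▸ hB'
  have h23 : ⁅cj c e 2, cj c e 3⁆ ∈ K0 := (h.A01 2).symm ▸ hA'
  have m0 : cj c e 0 ∈ K1 := mem_sup_right (mem_zpowers _)
  have m1 : cj c e 1 ∈ K2 := mem_sup_right (mem_zpowers _)
  have m2 : cj c e 2 ∈ K3 := mem_sup_right (mem_zpowers _)
  have m3 : cj c e 3 ∈ K4 := mem_sup_right (mem_zpowers _)
  have l1 : K0 ≤ K1 := le_sup_left
  have l2 : K0 ≤ K2 := l1.trans le_sup_left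
  have l3 : K0 ≤ K3 := l2.trans le_sup_left
  have n11 : cj c e 1 ∈ normalizer (K1 : Set D) :=
    mem_normalizer_sup (hn0 1) (key 0 1 l1 h01 m0)
  have n12 : cj c e 2 ∈ normalizer (K1 : Set D) :=
    mem_normalizer_sup (hn0 2) (key 0 2 l1 h02 m0)
  have n13 : cj c e 3 ∈ normalizer (K1 : Set D) :=
    mem_normalizer_sup (hn0 3) (key 0 3 l1 h03 m0)
  have n22 : cj c e 2 ∈ normalizer (K2 : Set D) := mem_normalizer_sup n12 (key 1 2 l2 h12 m1)
  have n23 : cj c e 3 ∈ normalizer (K2 : Set D) := mem_normalizer_sup n13 (key 1 3 l2 h13 m1)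
  have n33 : cj c e 3 ∈ normalizer (K3 : Set D) := mem_normalizer_sup n23 (key 2 3 l3 h23 m2)
  have c1 : Nat.card K1 ≤ 8 := (card_sup_le_two K0 (hn0 0) (hsq 0)).trans (by omega)
  have c2 : Nat.card K2 ≤ 16 := (card_sup_le_two K1 n11 (l1 (hsq 1))).trans (by omega)
  have c3 : Nat.card K3 ≤ 32 := (card_sup_le_two K2 n22 (l2 (hsq 2))).trans (by omega)
  have c4 : Nat.card K4 ≤ 64 := (card_sup_le_two K3 n33 (l3 (hsq 3))).trans (by omega)
  have le34 : K3 ≤ K4 := le_sup_left
  have le24 : K2 ≤ K4 := le_sup_left.trans le34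
  have le14 : K1 ≤ K4 := le_sup_left.trans le24
  have p4 : cj c e 4 ∈ K4 := by
    have : cj c e 4 = (cj c e 0 * cj c e 1 * cj c e 2 * cj c e 3)⁻¹ := eq_inv_of_mul_eq_one_right h.prod
    rw [this]
    exact K4.inv_mem (K4.mul_mem (K4.mul_mem (K4.mul_mem (le14 m0) (le24 m1)) (le34 m2)) m3)
  have hc4 : c ∈ normalizer (K4 : Set D) := by
    have hgen : closure ((K0 : Set D) ∪ {cj c e 0, cj c e 1, cj c e 2, cj c e 3}) = K4 := by
      refine le_antisymm ((closure_le _).mpr ?_) ?_
      · rintro x (hx | rfl | rfl | rfl | rfl)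
        · exact le14 (l1 hx)
        · exact le14 m0
        · exact le24 m1
        · exact le34 m2
        · exact m3
      · refine sup_le (sup_le (sup_le (sup_le (fun x hx => Subgroup.subset_closure (Or.inl hx)) ?_) ?_) ?_) ?_ <;>
          exact zpowers_le.mpr (Subgroup.subset_closure (Or.inr (by simp)))
    rw [← hgen]
    refine mem_normalizer_closure ?_
    rw [hgen]
    rintro x (hx | rfl | rfl | rfl | rfl)
    · rw [← mem_centralizer_iff.mp (hcentral c h.cA h.cB) x hx, mul_inv_cancel_right]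
      exact le14 (l1 hx)
    · rw [cj_conj]; exact le24 m1
    · rw [cj_conj]; exact le34 m2
    · rw [cj_conj]; exact m3
    · rw [cj_conj]; exact p4
  have hle : closure ({c, e} : Set D) ≤ K4 ⊔ zpowers c := by
    rw [closure_le]
    rintro x (rfl | rfl)
    · exact mem_sup_right (mem_zpowers _)
    · exact mem_sup_left (cj_zero c x ▸ le14 m0)
  refine (card_le_of_le hle).trans ?_
  have hsup : ((K4 ⊔ zpowers c : Subgroup D) : Set D) = (K4 : Set D) * (zpowers c : Set D) :=
    Subgroup.coe_mul_of_right_le_normalizer_left K4 (zpowers c) (zpowers_le.mpr hc4)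
  have h5 : Nat.card (zpowers c) ≤ 5 := by
    rw [Nat.card_zpowers]
    exact Nat.le_of_dvd (by norm_num) (orderOf_dvd_of_pow_eq_one h.c5)
  calc Nat.card ↥(K4 ⊔ zpowers c)
      = Nat.card ((K4 : Set D) * (zpowers c : Set D) : Set D) := by rw [← hsup]; rfl
    _ ≤ Nat.card (K4 : Set D) * Nat.card (zpowers c : Set D) := Set.natCard_mul_le
    _ ≤ 64 * 5 := Nat.mul_le_mul c4 h5
    _ = 320 := rfl

theorem nonempty_equiv {E : Type*} [Group E] [Finite D] [Finite E] {c' e' : E} (h : Rel c e) (h' : Rel c' e')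
    (hD : closure ({c, e} : Set D) = ⊤) (hE : closure ({c', e'} : Set E) = ⊤)
    (hcD : Nat.card D = 320) (hcE : Nat.card E = 320) : Nonempty (D ≃* E) := by
  have hcj : ∀ i, cj (c, c') (e, e') i = (cj c e i, cj c' e' i) := fun i => by
    simp [cj, Prod.ext_iff]
  have hR : Rel ((c, c') : D × E) (e, e') := by
    constructor <;> simp only [hcj, commute_iff_eq, commutatorElement_def, Prod.mk_mul_mk, Prod.inv_mk,
      Prod.pow_mk, Prod.ext_iff, Prod.fst_one, Prod.snd_one]
    · exact ⟨h.c5, h'.c5⟩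
    · exact ⟨h.e4, h'.e4⟩
    · exact ⟨h.ce, h'.ce⟩
    · exact ⟨h.cA, h'.cA⟩
    · exact ⟨h.cB, h'.cB⟩
    · exact ⟨h.eA, h'.eA⟩
    · exact ⟨h.eB, h'.eB⟩
    · exact ⟨h.A2, h'.A2⟩
    · exact ⟨h.B2, h'.B2⟩
    · exact ⟨h.prod, h'.prod⟩
  set P := closure ({((c, c') : D × E), (e, e')} : Set (D × E))
  have hP : Nat.card P ≤ 320 := card_closure_le hR
  set f := (MonoidHom.fst D E).comp P.subtype
  set g := (MonoidHom.snd D E).comp P.subtype
  have hfs : Function.Surjective f := by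
    rw [← MonoidHom.range_eq_top, eq_top_iff, ← hD, closure_le]
    rintro u (rfl | rfl)
    · exact ⟨⟨_, Subgroup.subset_closure (Or.inl rfl)⟩, rfl⟩
    · exact ⟨⟨_, Subgroup.subset_closure (Or.inr rfl)⟩, rfl⟩
  have hgs : Function.Surjective g := by
    rw [← MonoidHom.range_eq_top, eq_top_iff, ← hE, closure_le]
    rintro u (rfl | rfl)
    · exact ⟨⟨_, Subgroup.subset_closure (Or.inl rfl)⟩, rfl⟩
    · exact ⟨⟨_, Subgroup.subset_closure (Or.inr rfl)⟩, rfl⟩
  have hf : Nat.card P = Nat.card D := le_antisymm (hcD ▸ hP) (Nat.card_le_card_of_surjective f hfs)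
  have hg : Nat.card P = Nat.card E := le_antisymm (hcE ▸ hP) (Nat.card_le_card_of_surjective g hgs)
  exact ⟨(MulEquiv.ofBijective f ((Nat.bijective_iff_surjective_and_card f).2 ⟨hfs, hf⟩)).symm.trans
    (MulEquiv.ofBijective g ((Nat.bijective_iff_surjective_and_card g).2 ⟨hgs, hg⟩))⟩

end Rel

end Cfsg.Agent.Techniques.Order320
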